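import Cfsg.Agent.Block.Idempotent
import Cfsg.Agent.CharInd.Clifford

/-!
# Characters of one block have the same constituents on a normal `p'`-subgroup
-/

namespace Cfsg.Agent.Block

open Cfsg MonoidAlgebra
open scoped ComplexConjugate

variable {G : Type*} [Group G] [Fintype G] {p : ℕ} {M : Ideal AlgInt} [M.IsPrime]

open scoped Classical in
/-- The idempotent of a conjugacy orbit of characters of a normal subgroup, as a function. -/
noncomputable def orbitIdemFun (N : Subgroup G) [N.Normal] (θ : N → ℂ) (g : G) : ℂ :=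
  if h : g ∈ N then (Nat.card N : ℂ)⁻¹ * ∑ φ ∈ CharInd.conjClass N θ, φ 1 * conj (φ ⟨g, h⟩) else 0

theorem orbitIdemFun_conj (N : Subgroup G) [N.Normal] (θ : N → ℂ) (g x : G) :
    orbitIdemFun N θ (x * g * x⁻¹) = orbitIdemFun N θ g := by
  classical
  by_cases hg : g ∈ N
  · have hg' : x * g * x⁻¹ ∈ N := Subgroup.Normal.conj_mem inferInstance g hg x
    rw [orbitIdemFun, orbitIdemFun, dif_pos hg, dif_pos hg']
    congr 1
    refine Finset.sum_nbij' (fun φ => CharInd.conjChar N x φ) (fun φ => CharInd.conjChar N x⁻¹ φ)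
      ?_ ?_ ?_ ?_ ?_
    · intro φ hφ
      obtain ⟨w, rfl⟩ := (CharInd.mem_conjClass N).1 hφ
      exact (CharInd.mem_conjClass N).2 ⟨w * x, by rw [CharInd.conjChar_mul]⟩
    · intro φ hφ
      obtain ⟨w, rfl⟩ := (CharInd.mem_conjClass N).1 hφ
      exact (CharInd.mem_conjClass N).2 ⟨w * x⁻¹, by rw [CharInd.conjChar_mul]⟩
    · intro φ _
      rw [← CharInd.conjChar_mul, mul_inv_cancel, CharInd.conjChar_one]
    · intro φ _
      rw [← CharInd.conjChar_mul, inv_mul_cancel, CharInd.conjChar_one]
    · intro φ _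
      rw [CharInd.conjChar_apply, CharInd.conjChar_apply]
      congr 2
      exact Subtype.ext (by simp)
  · have hg' : x * g * x⁻¹ ∉ N := fun h => hg (by
      simpa [mul_assoc] using Subgroup.Normal.conj_mem inferInstance _ h x⁻¹)
    rw [orbitIdemFun, orbitIdemFun, dif_neg hg, dif_neg hg']

theorem orbitIdemFun_memLocalRing (hM : IsPModular p M) (N : Subgroup G) [N.Normal]
    (hN : ¬ p ∣ Nat.card N) {θ : N → ℂ} (hθ : IsIrrCharacter N θ) (g : G) :
    MemLocalRing M (orbitIdemFun N θ g) := by
  classical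
  rw [orbitIdemFun]
  split_ifs with hg
  · refine (localRing M).mul_mem (memLocalRing_natCast_inv hM hN)
      ((localRing M).sum_mem fun φ hφ => ?_)
    obtain ⟨w, rfl⟩ := (CharInd.mem_conjClass N).1 hφ
    rw [← Char.irr_inv (CharInd.conjChar_irr N w hθ)]
    have hc := Char.isCharacter_of_irr (CharInd.conjChar_irr N w hθ)
    exact (localRing M).mul_mem (memLocalRing_of_isIntegral (Char.isCharacter_isIntegral hc _))
      (memLocalRing_of_isIntegral (Char.isCharacter_isIntegral hc _))
  · exact (localRing M).zero_mem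

/-- The central character of an orbit idempotent is the indicator of lying over the orbit. -/
theorem omega_orbitIdem (N : Subgroup G) [N.Normal] [Fintype N] {θ : N → ℂ}
    (hθ : IsIrrCharacter N θ) {χ : G → ℂ} (hχ : IsIrrCharacter G χ)
    [Decidable (classInner (fun n : N => χ n) θ = 0)] :
    omega χ (ofFn (orbitIdemFun N θ)) =
      if classInner (fun n : N => χ n) θ = 0 then 0 else 1 := by
  classical
  set a := classInner (fun n : N => χ n) θ with ha
  have hcf := Char.irr_isClassFunction hχ
  have hnum : ∑ g : G, orbitIdemFun N θ g * χ g = a * ∑ φ ∈ CharInd.conjClass N θ, φ 1 := by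
    rw [← Finset.sum_subset (Finset.subset_univ
      ((Finset.univ : Finset N).map ⟨Subtype.val, Subtype.val_injective⟩)) ?_]
    · rw [Finset.sum_map]
      simp only [Function.Embedding.coeFn_mk, orbitIdemFun, SetLike.coe_mem, dif_pos,
        Subtype.coe_eta, Finset.mul_sum, Finset.sum_mul]
      rw [Finset.sum_comm]
      refine Finset.sum_congr rfl fun φ hφ => ?_
      obtain ⟨w, rfl⟩ := (CharInd.mem_conjClass N).1 hφ
      rw [ha, ← CharInd.classInner_res_conjChar N hcf w θ, classInner, Finset.mul_sum,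
        Finset.sum_mul]
      exact Finset.sum_congr rfl fun n _ => by ring
    · intro g _ hg
      rw [orbitIdemFun, dif_neg fun h => hg (Finset.mem_map.2 ⟨⟨g, h⟩, Finset.mem_univ _, rfl⟩),
        zero_mul]
  rw [omega_eq_sum]
  simp only [coeff_ofFn]
  rw [hnum]
  split_ifs with h0
  · rw [ha, h0, zero_mul, zero_div]
  · have h1 := congrFun (CharInd.clifford N hχ hθ h0) 1
    simp only [OneMemClass.coe_one, Pi.smul_apply, Finset.sum_apply, smul_eq_mul, ← ha] at h1
    rw [← h1, div_self (Char.irr_one_ne_zero hχ)]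

/-- Characters in the same block lie over the same characters of a normal `p'`-subgroup. -/
theorem classInner_res_ne_zero_iff_of_sameBlock (hM : IsPModular p M) (N : Subgroup G) [N.Normal]
    [Fintype N] (hN : ¬ p ∣ Nat.card N) {θ : N → ℂ} (hθ : IsIrrCharacter N θ) {χ ψ : G → ℂ}
    (hχ : IsIrrCharacter G χ) (hψ : IsIrrCharacter G ψ) (h : SameBlock M χ ψ) :
    classInner (fun n : N => χ n) θ ≠ 0 ↔ classInner (fun n : N => ψ n) θ ≠ 0 := by
  classical
  let z : MonoidAlgebra (localRing M) G :=
    ofFn fun g => ⟨_, orbitIdemFun_memLocalRing hM N hN hθ g⟩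
  have hzC : toC M z = ofFn (orbitIdemFun N θ) :=
    groupAlgebra_ext fun g => by rw [coeff_mapR, coeff_ofFn, coeff_ofFn]; rfl
  have hz : IsCentralElt z := fun g x => by
    simp only [z, coeff_ofFn]
    exact Subtype.ext (orbitIdemFun_conj N θ g x)
  have hd := omega_toC_sub_mem_of_sameBlock hχ hψ h hz
  rw [hzC, omega_orbitIdem N hθ hχ, omega_orbitIdem N hθ hψ] at hd
  by_cases h1 : classInner (fun n : N => χ n) θ = 0 <;>
    by_cases h2 : classInner (fun n : N => ψ n) θ = 0 <;> simp only [h1, h2, if_true, if_false] at hd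
  · exact iff_of_false (not_not.2 h1) (not_not.2 h2)
  · exact absurd (by simpa using memLocalIdeal_neg hd) not_memLocalIdeal_one
  · exact absurd (by simpa using hd) not_memLocalIdeal_one
  · exact iff_of_true h1 h2

end Cfsg.Agent.Block
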