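import Cfsg.Agent.Block.DefectZero
import Cfsg.Agent.BlkChar.PModular

/-!
# No element of order `p r` in a simple group of order `p ^ a * q ^ b * r`
-/

namespace Cfsg.Agent.Block

open Cfsg

variable {G : Type*} [Group G] [Finite G] [IsSimpleGroup G]

theorem paqbr_no_rp_element {p q r a b : ℕ} (hp : p.Prime) (hq : q.Prime) (hr : r.Prime)
    (hqr : q ≠ r) (hna : ∃ u v : G, u * v ≠ v * u) (hcard : Nat.card G = p ^ a * q ^ b * r)
    (hpq : p ≠ q) {s y : G} (hcomm : Commute s y) (hs : orderOf s = r) (hy : orderOf y = p)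
    (hpr : p ≠ r) : False := by
  classical
  letI := Fintype.ofFinite G
  obtain ⟨M, hM⟩ := BlkChar.exists_isPModular p hp
  haveI := isPrime_of_isPModular hM
  have hord : orderOf (s * y) = r * p := by
    rw [hcomm.orderOf_mul_eq_mul_orderOf_of_coprime
      (by rw [hs, hy]; exact (Nat.coprime_primes hr hp).2 hpr.symm), hs, hy]
  let one : IrrCharacter G := Char.trivialIrr G
  have hB : IsPBlock M (principalBlock M G) := isPBlock_blockOf one
  have h1B : one ∈ principalBlock M G := mem_blockOf_self one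
  have h0 := blockOrth_of_integral hM (blockCoeff_memLocalRing hB) (g := s * y) (h := 1)
    fun z k hk => by
      rw [one_zpow, inv_one, mul_one, mul_eq_right] at hk
      exact (Int.natCast_dvd_natCast.2 (by rw [hord]; exact Dvd.intro_left _ rfl)).trans
        (orderOf_dvd_iff_zpow_eq_one.2 hk)
  rw [finsum_mem_eq_toFinset_sum,
    ← Finset.add_sum_erase _ _ (Set.mem_toFinset.2 h1B)] at h0
  simp only [inv_one] at h0
  have hone : (one : G → ℂ) (s * y) * (one : G → ℂ) 1 = 1 := one_mul _
  rw [hone] at h0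
  have hint : IsIntegral ℤ (∑ χ ∈ (principalBlock M G).toFinset.erase one,
      (χ : G → ℂ) (s * y) * (χ : G → ℂ) 1 / (q : ℂ)) := by
    refine IsIntegral.sum _ fun χ hχ => ?_
    obtain ⟨hne, hχB⟩ := Finset.mem_erase.1 hχ
    rw [Set.mem_toFinset] at hχB
    obtain ⟨h1, -, hdG⟩ := irr_one_eq_charDegree χ.2
    set d := charDegree (χ : G → ℂ) with hd
    by_cases hqd : q ∣ d
    · obtain ⟨e, he⟩ := hqd
      rw [h1, he, Nat.cast_mul, mul_comm (q : ℂ), ← mul_assoc,
        mul_div_cancel_right₀ _ (Nat.cast_ne_zero.2 hq.ne_zero)]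
      exact (Char.isCharacter_isIntegral (Char.isCharacter_of_irr χ.2) _).mul (Char.isIntegral_of_nat e)
    rw [hcard, mul_comm (p ^ a), mul_assoc] at hdG
    have hd' : d ∣ p ^ a * r :=
      (Nat.Coprime.pow_right b ((hq.coprime_iff_not_dvd.2 hqd).symm)).dvd_of_dvd_mul_left hdG
    by_cases hrd : r ∣ d
    · have hz : (χ : G → ℂ) (s * y) = 0 := by
        refine Char.irr_defect_zero_vanish' χ.2 hr (n := 1) ?_ h1 (by rwa [pow_one]) _
          (by rw [hord]; exact Dvd.intro _ rfl)
        intro h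
        rw [hcard, pow_succ, pow_one] at h
        have := Nat.dvd_of_mul_dvd_mul_right hr.pos h
        rcases hr.dvd_mul.1 this with h' | h'
        · exact hpr ((Nat.prime_dvd_prime_iff_eq hr hp).1 (hr.dvd_of_dvd_pow h')).symm
        · exact hqr ((Nat.prime_dvd_prime_iff_eq hr hq).1 (hr.dvd_of_dvd_pow h')).symm
      simp [hz, isIntegral_zero]
    · obtain ⟨k, -, hk⟩ := (Nat.dvd_prime_pow hp).1
        (((hr.coprime_iff_not_dvd.2 hrd).symm).dvd_of_dvd_mul_right hd')
      refine absurd (Subtype.ext ?_) hne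
      exact eq_one_of_mem_principalBlock_of_prime_pow hM hna hχB (k := k)
        (by rw [h1, hk, Nat.cast_pow])
  rw [← Finset.sum_div, eq_neg_of_add_eq_zero_right h0, neg_div] at hint
  have h2 : IsIntegral ℤ (((1 : ℕ) : ℂ) / (q : ℂ)) := by simpa using hint.neg
  exact hq.one_lt.ne' (Nat.dvd_one.mp (Char.dvd_of_isIntegral_div hq.ne_zero h2))

end Cfsg.Agent.Block
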